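import Mathlib.LinearAlgebra.Finsupp.LinearCombination
import Mathlib.LinearAlgebra.Quotient.Basic
import Mathlib.Tactic.Abel

set_option autoImplicit false

namespace Groth.Agent.SymmCocycle

universe u

section ext

variable {P : Type u} [AddCommGroup P] {A : Type u} [AddCommGroup A]

/-- a normalised-up-to-translation symmetric 2-cocycle -/
structure Cocycle (P A : Type u) [AddCommGroup P] [AddCommGroup A] where
  c : P → P → A
  assoc : ∀ p q r, c (p + q) r + c p q = c p (q + r) + c q r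
  symm : ∀ p q, c p q = c q p

/-- the extension attached to a cocycle -/
def Ext (_f : Cocycle P A) : Type u := P × A

variable (f : Cocycle P A)

lemma c_zero (p : P) : f.c p 0 = f.c 0 0 := by
  have h := f.assoc p 0 0
  rw [add_zero, add_zero] at h
  exact add_left_cancel h

instance : Add (Ext f) := ⟨fun x y => (x.1 + y.1, x.2 + y.2 + f.c x.1 y.1)⟩
instance : Zero (Ext f) := ⟨(0, -f.c 0 0)⟩
instance : Neg (Ext f) := ⟨fun x => (-x.1, -x.2 - f.c x.1 (-x.1) - f.c 0 0)⟩

instance : AddCommGroup (Ext f) where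
  add_assoc x y z := by
    show ((x.1 + y.1) + z.1, (x.2 + y.2 + f.c x.1 y.1) + z.2 + f.c (x.1 + y.1) z.1) =
      (x.1 + (y.1 + z.1), x.2 + (y.2 + z.2 + f.c y.1 z.1) + f.c x.1 (y.1 + z.1))
    refine Prod.ext (add_assoc _ _ _) ?_
    have h := f.assoc x.1 y.1 z.1
    calc (x.2 + y.2 + f.c x.1 y.1) + z.2 + f.c (x.1 + y.1) z.1
        = x.2 + y.2 + z.2 + (f.c (x.1 + y.1) z.1 + f.c x.1 y.1) := by abel
      _ = _ := by rw [h]; dsimp only; abel
  zero_add x := by
    show (0 + x.1, -f.c 0 0 + x.2 + f.c 0 x.1) = x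
    rw [f.symm 0 x.1, c_zero f x.1]; refine Prod.ext (zero_add _) ?_
    show -f.c 0 0 + x.2 + f.c 0 0 = x.2
    abel
  add_zero x := by
    show (x.1 + 0, x.2 + -f.c 0 0 + f.c x.1 0) = x
    rw [c_zero f x.1]; refine Prod.ext (add_zero _) ?_
    show x.2 + -f.c 0 0 + f.c 0 0 = x.2
    abel
  neg_add_cancel x := by
    show (-x.1 + x.1, (-x.2 - f.c x.1 (-x.1) - f.c 0 0) + x.2 + f.c (-x.1) x.1) = (0, -f.c 0 0)
    rw [f.symm (-x.1)]
    refine Prod.ext (neg_add_cancel _) ?_
    show (-x.2 - f.c x.1 (-x.1) - f.c 0 0) + x.2 + f.c x.1 (-x.1) = -f.c 0 0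
    abel
  add_comm x y := by
    show (x.1 + y.1, x.2 + y.2 + f.c x.1 y.1) = (y.1 + x.1, y.2 + x.2 + f.c y.1 x.1)
    rw [f.symm x.1, add_comm x.1, add_comm x.2]
  nsmul := nsmulRec
  zsmul := zsmulRec

/-- the zero-section -/
def sec (p : P) : Ext f := ((p, 0) : P × A)

/-- the kernel inclusion -/
def incl : A →+ Ext f where
  toFun a := ((0, a - f.c 0 0) : P × A)
  map_zero' := by show ((0, 0 - f.c 0 0) : P × A) = (0, -f.c 0 0); rw [zero_sub]
  map_add' a b := by
    show ((0, a + b - f.c 0 0) : P × A) = (0 + 0, (a - f.c 0 0) + (b - f.c 0 0) + f.c 0 0)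
    refine Prod.ext (add_zero _).symm ?_
    show a + b - f.c 0 0 = a - f.c 0 0 + (b - f.c 0 0) + f.c 0 0
    abel

lemma sec_add (p q : P) : sec f (p + q) - sec f p - sec f q = incl f (-f.c p q) := by
  rw [sub_sub, sub_eq_iff_eq_add]
  show ((p + q, 0) : P × A) = (0 + (p + q), (-f.c p q - f.c 0 0) + (0 + 0 + f.c p q) + f.c 0 (p + q))
  rw [f.symm 0 (p + q), c_zero f (p + q)]
  refine Prod.ext (zero_add _).symm ?_
  show (0 : A) = -f.c p q - f.c 0 0 + (0 + 0 + f.c p q) + f.c 0 0
  abel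

lemma incl_injective : Function.Injective (incl f) := fun _ _ h =>
  sub_left_injective (congrArg Prod.snd h)

end ext

variable (P : Type u) [AddCommGroup P]

theorem main :
    letI ε : (P →₀ ℤ) →ₗ[ℤ] P := Finsupp.linearCombination ℤ (fun p : P => p)
    letI d₀ : (P × P →₀ ℤ) →ₗ[ℤ] (P →₀ ℤ) := Finsupp.linearCombination ℤ
      (fun pq : P × P => Finsupp.single (pq.1 + pq.2) 1 - Finsupp.single pq.1 1 - Finsupp.single pq.2 1)
    letI d₁ : (P × P × P →₀ ℤ) →ₗ[ℤ] (P × P →₀ ℤ) := Finsupp.linearCombination ℤ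
      (fun t : P × P × P => Finsupp.single (t.1 + t.2.1, t.2.2) 1 - Finsupp.single (t.1, t.2.1 + t.2.2) 1
        + Finsupp.single (t.1, t.2.1) 1 - Finsupp.single (t.2.1, t.2.2) 1)
    letI d₁' : (P × P →₀ ℤ) →ₗ[ℤ] (P × P →₀ ℤ) := Finsupp.linearCombination ℤ
      (fun pq : P × P => Finsupp.single pq 1 - Finsupp.single (pq.2, pq.1) 1)
    Function.Surjective ε ∧ LinearMap.ker ε = LinearMap.range d₀ ∧
      LinearMap.ker d₀ = LinearMap.range d₁ ⊔ LinearMap.range d₁' := by
  let ε : (P →₀ ℤ) →ₗ[ℤ] P := Finsupp.linearCombination ℤ (fun p : P => p)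
  let d₀ : (P × P →₀ ℤ) →ₗ[ℤ] (P →₀ ℤ) := Finsupp.linearCombination ℤ
    (fun pq : P × P => Finsupp.single (pq.1 + pq.2) 1 - Finsupp.single pq.1 1 - Finsupp.single pq.2 1)
  let d₁ : (P × P × P →₀ ℤ) →ₗ[ℤ] (P × P →₀ ℤ) := Finsupp.linearCombination ℤ
    (fun t : P × P × P => Finsupp.single (t.1 + t.2.1, t.2.2) 1 - Finsupp.single (t.1, t.2.1 + t.2.2) 1
      + Finsupp.single (t.1, t.2.1) 1 - Finsupp.single (t.2.1, t.2.2) 1)
  let d₁' : (P × P →₀ ℤ) →ₗ[ℤ] (P × P →₀ ℤ) := Finsupp.linearCombination ℤ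
    (fun pq : P × P => Finsupp.single pq 1 - Finsupp.single (pq.2, pq.1) 1)
  show Function.Surjective ε ∧ LinearMap.ker ε = LinearMap.range d₀ ∧
    LinearMap.ker d₀ = LinearMap.range d₁ ⊔ LinearMap.range d₁'
  have hε : ∀ p, ε (Finsupp.single p 1) = p := fun p => by simp [ε]
  have hd₀ : ∀ p q, d₀ (Finsupp.single (p, q) 1) =
      Finsupp.single (p + q) 1 - Finsupp.single p 1 - Finsupp.single q 1 := fun p q => by simp [d₀]
  refine ⟨fun p => ⟨_, hε p⟩, le_antisymm ?_ ?_, le_antisymm ?_ ?_⟩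
  · -- every element is congruent to the single of its value
    let q := (LinearMap.range d₀).mkQ
    let g : P →+ ((P →₀ ℤ) ⧸ LinearMap.range d₀) :=
      AddMonoidHom.mk' (fun p => q (Finsupp.single p 1)) fun a b => by
        have h : q (d₀ (Finsupp.single (a, b) 1)) = 0 :=
          (Submodule.Quotient.mk_eq_zero _).2 ⟨_, rfl⟩
        rw [hd₀, map_sub, map_sub] at h
        rw [sub_sub, sub_eq_zero] at h
        exact h
    have key : g.toIntLinearMap ∘ₗ ε = q := Finsupp.lhom_ext' fun p => LinearMap.ext_ring (by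
      show g (ε (Finsupp.single p 1)) = q (Finsupp.single p 1)
      rw [hε]; rfl)
    intro x hx
    rw [← Submodule.Quotient.mk_eq_zero]
    show q x = 0
    rw [← key, LinearMap.comp_apply, LinearMap.mem_ker.1 hx, map_zero]
  · rw [LinearMap.range_le_ker_iff]
    refine Finsupp.lhom_ext' fun pq => LinearMap.ext_ring ?_
    show ε (d₀ (Finsupp.single (pq.1, pq.2) 1)) = 0
    rw [hd₀, map_sub, map_sub, hε, hε, hε]; abel
  · let R := LinearMap.range d₁ ⊔ LinearMap.range d₁'
    let q := R.mkQ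
    let f : Cocycle P ((P × P →₀ ℤ) ⧸ R) :=
      { c := fun a b => q (Finsupp.single (a, b) 1)
        assoc := fun a b c => by
          have h : q (d₁ (Finsupp.single (a, b, c) 1)) = 0 :=
            (Submodule.Quotient.mk_eq_zero _).2 (Submodule.mem_sup_left ⟨_, rfl⟩)
          simp only [d₁, Finsupp.linearCombination_single, one_smul, map_sub, map_add] at h
          rw [← sub_eq_zero, ← h]; abel
        symm := fun a b => by
          have h : q (d₁' (Finsupp.single (a, b) 1)) = 0 :=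
            (Submodule.Quotient.mk_eq_zero _).2 (Submodule.mem_sup_right ⟨_, rfl⟩)
          simp only [d₁', Finsupp.linearCombination_single, one_smul, map_sub] at h
          exact sub_eq_zero.1 h }
    let Ψ : (P →₀ ℤ) →ₗ[ℤ] Ext f := Finsupp.linearCombination ℤ (sec f)
    have key : Ψ ∘ₗ d₀ = -((incl f).toIntLinearMap ∘ₗ q) :=
      Finsupp.lhom_ext' fun pq => LinearMap.ext_ring (by
        show Ψ (d₀ (Finsupp.single (pq.1, pq.2) 1)) = -(incl f (q (Finsupp.single pq 1)))
        rw [hd₀, map_sub, map_sub]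
        simp only [Ψ, Finsupp.linearCombination_single, one_smul]
        rw [sec_add, map_neg])
    intro x hx
    rw [← Submodule.Quotient.mk_eq_zero]
    show q x = 0
    apply incl_injective f
    have h := LinearMap.congr_fun key x
    rw [LinearMap.comp_apply, LinearMap.mem_ker.1 hx, map_zero] at h
    rw [map_zero]
    exact (neg_eq_zero.1 h.symm)
  · rw [sup_le_iff, LinearMap.range_le_ker_iff, LinearMap.range_le_ker_iff]
    constructor
    · refine Finsupp.lhom_ext' fun t => LinearMap.ext_ring ?_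
      show d₀ (d₁ (Finsupp.single t 1)) = 0
      simp only [d₁, Finsupp.linearCombination_single, one_smul, map_sub, map_add, hd₀, add_assoc]
      abel
    · refine Finsupp.lhom_ext' fun t => LinearMap.ext_ring ?_
      show d₀ (d₁' (Finsupp.single (t.1, t.2) 1)) = 0
      simp only [d₁', Finsupp.linearCombination_single, one_smul, map_sub, hd₀, add_comm t.2 t.1]
      abel

end Groth.Agent.SymmCocycle
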